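import Mathlib
import Cfsg.Agent.Lib.ChevIso.Act
import Cfsg.Agent.Lib.ChevIso.OmegaPlus
import Cfsg.Prelude.Def_ChevD4

/-!
# The Lie algebra of type `D₄` realised by `8 × 8` matrices
-/

set_option autoImplicit false
set_option linter.unusedSectionVars false
set_option linter.unusedSimpArgs false
set_option linter.unusedVariables false

namespace Cfsg.Agent.Lib.ChevIso.D4Tbl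

open Cfsg.Lie Matrix Cfsg.Agent.Lib.Chevalley.Reflect Cfsg.Agent.Lib.ChevIso.Act
open Cfsg.Agent.Lib.ChevIso.OmegaPlus (Ip)

/-- Encoding of the indices. -/
def E8 : Enc (Ip 4) where
  cd := Sum.elim (fun i => i.val) (fun i => 4 + i.val)
  dc k := if h : k < 4 then .inl ⟨k, h⟩ else .inr ⟨(k - 4) % 4, Nat.mod_lt _ (by norm_num)⟩
  dc_cd := by
    rintro (i | i) <;> fin_cases i <;> rfl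
  L := [0, 1, 2, 3, 4, 5, 6, 7]
  mem := by
    rintro (i | i) <;> fin_cases i <;> simp

/-- The pairs of coordinates of the root vectors. -/
def rootPair : List (ℕ × ℕ) :=
  [(5, 0), (6, 0), (3, 0), (7, 0), (4, 6), (1, 0), (5, 2), (5, 7), (5, 3), (2, 1), (3, 2), (7, 2), (2, 7), (2, 3),
    (1, 2), (3, 5), (7, 5), (2, 5), (0, 1), (6, 4), (0, 7), (0, 3), (0, 6), (0, 5)]

/-- The partner coordinate. -/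
def sw (k : ℕ) : ℕ := if k < 4 then k + 4 else k - 4

/-- The root matrix. -/
def bl (r : ℕ) : SpM :=
  let p := rootPair.getD r (0, 0)
  [(p.1, p.2, 1), (sw p.2, sw p.1, -1)]

/-- The matrices of the `h_{p_i}`. -/
def hl (i : ℕ) : SpM :=
  match i with
  | 0 => [(0, 0, 1), (1, 1, -1), (4, 4, -1), (5, 5, 1)]
  | 1 => [(1, 1, 1), (2, 2, -1), (5, 5, -1), (6, 6, 1)]
  | 2 => [(2, 2, 1), (3, 3, -1), (6, 6, -1), (7, 7, 1)]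
  | 3 => [(2, 2, 1), (3, 3, 1), (6, 6, -1), (7, 7, -1)]
  | _ => []

/-- The matrix of a basis vector. -/
def pl (k : ℕ) : SpM := if k < 4 then hl k else bl (k - 4)

/-- The entries. -/
def Pz (k i j : ℕ) : ℤ := evZ (pl k) i j

/-- The columns of the root elements. -/
def colT : List (List Cl) := [
  [[⟨4, 0, 1⟩],
    [⟨4, 1, 1⟩],
    [⟨4, 0, 1⟩],
    [⟨4, 0, 1⟩],
    [],
    [],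
    [],
    [],
    [],
    [],
    [],
    [],
    [],
    [],
    [],
    [],
    [],
    [],
    [⟨5, 1, 1⟩],
    [⟨6, -1, 1⟩],
    [⟨7, -1, 1⟩],
    [⟨8, 1, 1⟩],
    [],
    [⟨10, -1, 1⟩],
    [⟨11, 1, 1⟩],
    [⟨12, 1, 1⟩],
    [⟨13, -1, 1⟩],
    [⟨0, -1, 1⟩, ⟨1, -2, 1⟩, ⟨2, -1, 1⟩, ⟨3, -1, 1⟩, ⟨4, -1, 2⟩]],
  [[⟨5, 1, 1⟩],
    [⟨5, -1, 1⟩],
    [⟨5, 1, 1⟩],
    [⟨5, 1, 1⟩],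
    [],
    [],
    [],
    [],
    [],
    [],
    [],
    [],
    [],
    [⟨4, 1, 1⟩],
    [],
    [],
    [⟨6, 1, 1⟩],
    [⟨7, 1, 1⟩],
    [],
    [],
    [],
    [⟨9, 1, 1⟩],
    [⟨10, -1, 1⟩],
    [],
    [⟨14, -1, 1⟩],
    [⟨15, -1, 1⟩],
    [⟨0, -1, 1⟩, ⟨1, -1, 1⟩, ⟨2, -1, 1⟩, ⟨3, -1, 1⟩, ⟨5, -1, 2⟩],
    [⟨18, -1, 1⟩]],
  [[⟨6, 1, 1⟩],
    [⟨6, 0, 1⟩],
    [⟨6, 1, 1⟩],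
    [⟨6, -1, 1⟩],
    [],
    [],
    [],
    [],
    [],
    [],
    [],
    [],
    [⟨4, -1, 1⟩],
    [],
    [],
    [⟨5, 1, 1⟩],
    [],
    [⟨8, 1, 1⟩],
    [],
    [],
    [⟨9, 1, 1⟩],
    [],
    [⟨11, -1, 1⟩],
    [⟨14, -1, 1⟩],
    [],
    [⟨0, -1, 1⟩, ⟨1, -1, 1⟩, ⟨2, -1, 1⟩, ⟨3, 0, 1⟩, ⟨6, -1, 2⟩],
    [⟨16, -1, 1⟩],
    [⟨19, 1, 1⟩]],
  [[⟨7, 1, 1⟩],
    [⟨7, 0, 1⟩],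
    [⟨7, -1, 1⟩],
    [⟨7, 1, 1⟩],
    [],
    [],
    [],
    [],
    [],
    [],
    [],
    [⟨4, -1, 1⟩],
    [],
    [],
    [⟨5, 1, 1⟩],
    [],
    [⟨8, 1, 1⟩],
    [],
    [],
    [⟨9, 1, 1⟩],
    [],
    [],
    [⟨12, -1, 1⟩],
    [⟨15, -1, 1⟩],
    [⟨0, -1, 1⟩, ⟨1, -1, 1⟩, ⟨2, 0, 1⟩, ⟨3, -1, 1⟩, ⟨7, -1, 2⟩],
    [],
    [⟨17, -1, 1⟩],
    [⟨20, 1, 1⟩]],
  [[⟨8, 1, 1⟩],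
    [⟨8, 1, 1⟩],
    [⟨8, -1, 1⟩],
    [⟨8, -1, 1⟩],
    [],
    [],
    [],
    [],
    [],
    [],
    [⟨4, 1, 1⟩],
    [],
    [],
    [],
    [⟨6, 1, 1⟩],
    [⟨7, 1, 1⟩],
    [],
    [],
    [⟨9, 1, 1⟩],
    [],
    [],
    [],
    [⟨13, -1, 1⟩],
    [⟨0, -1, 1⟩, ⟨1, -1, 1⟩, ⟨2, 0, 1⟩, ⟨3, 0, 1⟩, ⟨8, -1, 2⟩],
    [⟨16, -1, 1⟩],
    [⟨17, -1, 1⟩],
    [],
    [⟨21, -1, 1⟩]],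
  [[⟨9, 2, 1⟩],
    [⟨9, -1, 1⟩],
    [⟨9, 0, 1⟩],
    [⟨9, 0, 1⟩],
    [],
    [],
    [],
    [],
    [],
    [],
    [⟨5, 1, 1⟩],
    [⟨6, 1, 1⟩],
    [⟨7, 1, 1⟩],
    [⟨8, 1, 1⟩],
    [],
    [],
    [],
    [],
    [],
    [],
    [],
    [],
    [⟨0, -1, 1⟩, ⟨1, 0, 1⟩, ⟨2, 0, 1⟩, ⟨3, 0, 1⟩, ⟨9, -1, 2⟩],
    [⟨18, -1, 1⟩],
    [⟨19, -1, 1⟩],
    [⟨20, -1, 1⟩],
    [⟨21, -1, 1⟩],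
    []],
  [[⟨10, -1, 1⟩],
    [⟨10, 0, 1⟩],
    [⟨10, 1, 1⟩],
    [⟨10, 1, 1⟩],
    [],
    [],
    [],
    [],
    [⟨4, -1, 1⟩],
    [⟨5, -1, 1⟩],
    [],
    [],
    [],
    [],
    [],
    [],
    [⟨11, 1, 1⟩],
    [⟨12, 1, 1⟩],
    [],
    [⟨14, -1, 1⟩],
    [⟨15, -1, 1⟩],
    [⟨0, 0, 1⟩, ⟨1, -1, 1⟩, ⟨2, -1, 1⟩, ⟨3, -1, 1⟩, ⟨10, -1, 2⟩],
    [],
    [],
    [],
    [],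
    [⟨22, 1, 1⟩],
    [⟨23, 1, 1⟩]],
  [[⟨11, -1, 1⟩],
    [⟨11, 1, 1⟩],
    [⟨11, 1, 1⟩],
    [⟨11, -1, 1⟩],
    [],
    [],
    [],
    [⟨4, 1, 1⟩],
    [],
    [⟨6, -1, 1⟩],
    [],
    [],
    [],
    [],
    [],
    [⟨10, 1, 1⟩],
    [],
    [⟨13, 1, 1⟩],
    [⟨14, -1, 1⟩],
    [],
    [⟨0, 0, 1⟩, ⟨1, -1, 1⟩, ⟨2, -1, 1⟩, ⟨3, 0, 1⟩, ⟨11, -1, 2⟩],
    [⟨16, -1, 1⟩],
    [],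
    [],
    [],
    [⟨22, 1, 1⟩],
    [],
    [⟨24, -1, 1⟩]],
  [[⟨12, -1, 1⟩],
    [⟨12, 1, 1⟩],
    [⟨12, -1, 1⟩],
    [⟨12, 1, 1⟩],
    [],
    [],
    [⟨4, 1, 1⟩],
    [],
    [],
    [⟨7, -1, 1⟩],
    [],
    [],
    [],
    [],
    [⟨10, 1, 1⟩],
    [],
    [⟨13, 1, 1⟩],
    [],
    [⟨15, -1, 1⟩],
    [⟨0, 0, 1⟩, ⟨1, -1, 1⟩, ⟨2, 0, 1⟩, ⟨3, -1, 1⟩, ⟨12, -1, 2⟩],
    [],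
    [⟨17, -1, 1⟩],
    [],
    [],
    [⟨22, 1, 1⟩],
    [],
    [],
    [⟨25, -1, 1⟩]],
  [[⟨13, -1, 1⟩],
    [⟨13, 2, 1⟩],
    [⟨13, -1, 1⟩],
    [⟨13, -1, 1⟩],
    [],
    [⟨4, -1, 1⟩],
    [],
    [],
    [],
    [⟨8, -1, 1⟩],
    [],
    [],
    [],
    [],
    [⟨11, 1, 1⟩],
    [⟨12, 1, 1⟩],
    [],
    [],
    [⟨0, 0, 1⟩, ⟨1, -1, 1⟩, ⟨2, 0, 1⟩, ⟨3, 0, 1⟩, ⟨13, -1, 2⟩],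
    [⟨16, -1, 1⟩],
    [⟨17, -1, 1⟩],
    [],
    [],
    [⟨22, 1, 1⟩],
    [],
    [],
    [],
    [⟨26, 1, 1⟩]],
  [[⟨14, 0, 1⟩],
    [⟨14, -1, 1⟩],
    [⟨14, 2, 1⟩],
    [⟨14, 0, 1⟩],
    [],
    [],
    [],
    [⟨5, -1, 1⟩],
    [⟨6, -1, 1⟩],
    [],
    [],
    [],
    [⟨10, -1, 1⟩],
    [⟨11, -1, 1⟩],
    [],
    [],
    [],
    [⟨0, 0, 1⟩, ⟨1, 0, 1⟩, ⟨2, -1, 1⟩, ⟨3, 0, 1⟩, ⟨14, -1, 2⟩],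
    [],
    [],
    [⟨18, 1, 1⟩],
    [⟨19, 1, 1⟩],
    [],
    [],
    [],
    [⟨23, 1, 1⟩],
    [⟨24, 1, 1⟩],
    []],
  [[⟨15, 0, 1⟩],
    [⟨15, -1, 1⟩],
    [⟨15, 0, 1⟩],
    [⟨15, 2, 1⟩],
    [],
    [],
    [⟨5, -1, 1⟩],
    [],
    [⟨7, -1, 1⟩],
    [],
    [],
    [⟨10, -1, 1⟩],
    [],
    [⟨12, -1, 1⟩],
    [],
    [],
    [⟨0, 0, 1⟩, ⟨1, 0, 1⟩, ⟨2, 0, 1⟩, ⟨3, -1, 1⟩, ⟨15, -1, 2⟩],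
    [],
    [],
    [⟨18, 1, 1⟩],
    [],
    [⟨20, 1, 1⟩],
    [],
    [],
    [⟨23, 1, 1⟩],
    [],
    [⟨25, 1, 1⟩],
    []],
  [[⟨16, 0, 1⟩],
    [⟨16, 1, 1⟩],
    [⟨16, 0, 1⟩],
    [⟨16, -2, 1⟩],
    [],
    [⟨6, -1, 1⟩],
    [],
    [⟨8, -1, 1⟩],
    [],
    [],
    [⟨11, -1, 1⟩],
    [],
    [⟨13, -1, 1⟩],
    [],
    [],
    [⟨0, 0, 1⟩, ⟨1, 0, 1⟩, ⟨2, 0, 1⟩, ⟨3, 1, 1⟩, ⟨16, -1, 2⟩],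
    [],
    [],
    [⟨19, 1, 1⟩],
    [],
    [⟨21, 1, 1⟩],
    [],
    [],
    [⟨24, 1, 1⟩],
    [],
    [⟨26, 1, 1⟩],
    [],
    []],
  [[⟨17, 0, 1⟩],
    [⟨17, 1, 1⟩],
    [⟨17, -2, 1⟩],
    [⟨17, 0, 1⟩],
    [],
    [⟨7, -1, 1⟩],
    [⟨8, -1, 1⟩],
    [],
    [],
    [],
    [⟨12, -1, 1⟩],
    [⟨13, -1, 1⟩],
    [],
    [],
    [⟨0, 0, 1⟩, ⟨1, 0, 1⟩, ⟨2, 1, 1⟩, ⟨3, 0, 1⟩, ⟨17, -1, 2⟩],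
    [],
    [],
    [],
    [⟨20, 1, 1⟩],
    [⟨21, 1, 1⟩],
    [],
    [],
    [],
    [⟨25, 1, 1⟩],
    [⟨26, 1, 1⟩],
    [],
    [],
    []],
  [[⟨18, 1, 1⟩],
    [⟨18, -2, 1⟩],
    [⟨18, 1, 1⟩],
    [⟨18, 1, 1⟩],
    [⟨5, -1, 1⟩],
    [],
    [],
    [],
    [⟨9, -1, 1⟩],
    [],
    [],
    [⟨14, 1, 1⟩],
    [⟨15, 1, 1⟩],
    [⟨0, 0, 1⟩, ⟨1, 1, 1⟩, ⟨2, 0, 1⟩, ⟨3, 0, 1⟩, ⟨18, -1, 2⟩],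
    [],
    [],
    [⟨19, -1, 1⟩],
    [⟨20, -1, 1⟩],
    [],
    [],
    [],
    [],
    [⟨23, 1, 1⟩],
    [],
    [],
    [],
    [⟨27, 1, 1⟩],
    []],
  [[⟨19, 1, 1⟩],
    [⟨19, -1, 1⟩],
    [⟨19, 1, 1⟩],
    [⟨19, -1, 1⟩],
    [⟨6, 1, 1⟩],
    [],
    [],
    [⟨9, -1, 1⟩],
    [],
    [],
    [⟨14, 1, 1⟩],
    [],
    [⟨0, 0, 1⟩, ⟨1, 1, 1⟩, ⟨2, 0, 1⟩, ⟨3, 1, 1⟩, ⟨19, -1, 2⟩],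
    [⟨16, 1, 1⟩],
    [],
    [⟨18, -1, 1⟩],
    [],
    [⟨21, -1, 1⟩],
    [],
    [],
    [],
    [],
    [⟨24, 1, 1⟩],
    [],
    [],
    [⟨27, -1, 1⟩],
    [],
    []],
  [[⟨20, 1, 1⟩],
    [⟨20, -1, 1⟩],
    [⟨20, -1, 1⟩],
    [⟨20, 1, 1⟩],
    [⟨7, 1, 1⟩],
    [],
    [⟨9, -1, 1⟩],
    [],
    [],
    [],
    [⟨15, 1, 1⟩],
    [⟨0, 0, 1⟩, ⟨1, 1, 1⟩, ⟨2, 1, 1⟩, ⟨3, 0, 1⟩, ⟨20, -1, 2⟩],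
    [],
    [⟨17, 1, 1⟩],
    [⟨18, -1, 1⟩],
    [],
    [⟨21, -1, 1⟩],
    [],
    [],
    [],
    [],
    [],
    [⟨25, 1, 1⟩],
    [],
    [⟨27, -1, 1⟩],
    [],
    [],
    []],
  [[⟨21, 1, 1⟩],
    [⟨21, 0, 1⟩],
    [⟨21, -1, 1⟩],
    [⟨21, -1, 1⟩],
    [⟨8, -1, 1⟩],
    [⟨9, -1, 1⟩],
    [],
    [],
    [],
    [],
    [⟨0, 0, 1⟩, ⟨1, 1, 1⟩, ⟨2, 1, 1⟩, ⟨3, 1, 1⟩, ⟨21, -1, 2⟩],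
    [⟨16, 1, 1⟩],
    [⟨17, 1, 1⟩],
    [],
    [⟨19, -1, 1⟩],
    [⟨20, -1, 1⟩],
    [],
    [],
    [],
    [],
    [],
    [],
    [⟨26, 1, 1⟩],
    [⟨27, 1, 1⟩],
    [],
    [],
    [],
    []],
  [[⟨22, -2, 1⟩],
    [⟨22, 1, 1⟩],
    [⟨22, 0, 1⟩],
    [⟨22, 0, 1⟩],
    [],
    [⟨10, 1, 1⟩],
    [⟨11, 1, 1⟩],
    [⟨12, 1, 1⟩],
    [⟨13, 1, 1⟩],
    [⟨0, 1, 1⟩, ⟨1, 0, 1⟩, ⟨2, 0, 1⟩, ⟨3, 0, 1⟩, ⟨22, -1, 2⟩],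
    [],
    [],
    [],
    [],
    [],
    [],
    [],
    [],
    [⟨23, -1, 1⟩],
    [⟨24, -1, 1⟩],
    [⟨25, -1, 1⟩],
    [⟨26, -1, 1⟩],
    [],
    [],
    [],
    [],
    [],
    []],
  [[⟨23, -1, 1⟩],
    [⟨23, -1, 1⟩],
    [⟨23, 1, 1⟩],
    [⟨23, 1, 1⟩],
    [⟨10, 1, 1⟩],
    [],
    [⟨14, 1, 1⟩],
    [⟨15, 1, 1⟩],
    [⟨0, 1, 1⟩, ⟨1, 1, 1⟩, ⟨2, 0, 1⟩, ⟨3, 0, 1⟩, ⟨23, -1, 2⟩],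
    [⟨18, 1, 1⟩],
    [],
    [],
    [],
    [⟨22, -1, 1⟩],
    [],
    [],
    [⟨24, -1, 1⟩],
    [⟨25, -1, 1⟩],
    [],
    [],
    [],
    [⟨27, -1, 1⟩],
    [],
    [],
    [],
    [],
    [],
    []],
  [[⟨24, -1, 1⟩],
    [⟨24, 0, 1⟩],
    [⟨24, 1, 1⟩],
    [⟨24, -1, 1⟩],
    [⟨11, -1, 1⟩],
    [⟨14, 1, 1⟩],
    [],
    [⟨0, 1, 1⟩, ⟨1, 1, 1⟩, ⟨2, 0, 1⟩, ⟨3, 1, 1⟩, ⟨24, -1, 2⟩],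
    [⟨16, 1, 1⟩],
    [⟨19, 1, 1⟩],
    [],
    [],
    [⟨22, -1, 1⟩],
    [],
    [],
    [⟨23, -1, 1⟩],
    [],
    [⟨26, -1, 1⟩],
    [],
    [],
    [⟨27, 1, 1⟩],
    [],
    [],
    [],
    [],
    [],
    [],
    []],
  [[⟨25, -1, 1⟩],
    [⟨25, 0, 1⟩],
    [⟨25, -1, 1⟩],
    [⟨25, 1, 1⟩],
    [⟨12, -1, 1⟩],
    [⟨15, 1, 1⟩],
    [⟨0, 1, 1⟩, ⟨1, 1, 1⟩, ⟨2, 1, 1⟩, ⟨3, 0, 1⟩, ⟨25, -1, 2⟩],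
    [],
    [⟨17, 1, 1⟩],
    [⟨20, 1, 1⟩],
    [],
    [⟨22, -1, 1⟩],
    [],
    [],
    [⟨23, -1, 1⟩],
    [],
    [⟨26, -1, 1⟩],
    [],
    [],
    [⟨27, 1, 1⟩],
    [],
    [],
    [],
    [],
    [],
    [],
    [],
    []],
  [[⟨26, -1, 1⟩],
    [⟨26, 1, 1⟩],
    [⟨26, -1, 1⟩],
    [⟨26, -1, 1⟩],
    [⟨13, 1, 1⟩],
    [⟨0, 1, 1⟩, ⟨1, 1, 1⟩, ⟨2, 1, 1⟩, ⟨3, 1, 1⟩, ⟨26, -1, 2⟩],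
    [⟨16, 1, 1⟩],
    [⟨17, 1, 1⟩],
    [],
    [⟨21, 1, 1⟩],
    [⟨22, -1, 1⟩],
    [],
    [],
    [],
    [⟨24, -1, 1⟩],
    [⟨25, -1, 1⟩],
    [],
    [],
    [⟨27, -1, 1⟩],
    [],
    [],
    [],
    [],
    [],
    [],
    [],
    [],
    []],
  [[⟨27, 0, 1⟩],
    [⟨27, -1, 1⟩],
    [⟨27, 0, 1⟩],
    [⟨27, 0, 1⟩],
    [⟨0, 1, 1⟩, ⟨1, 2, 1⟩, ⟨2, 1, 1⟩, ⟨3, 1, 1⟩, ⟨27, -1, 2⟩],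
    [⟨18, 1, 1⟩],
    [⟨19, -1, 1⟩],
    [⟨20, -1, 1⟩],
    [⟨21, 1, 1⟩],
    [],
    [⟨23, -1, 1⟩],
    [⟨24, 1, 1⟩],
    [⟨25, 1, 1⟩],
    [⟨26, -1, 1⟩],
    [],
    [],
    [],
    [],
    [],
    [],
    [],
    [],
    [],
    [],
    [],
    [],
    [],
    []]]


/-- The column. -/
def cl (r k : ℕ) : Cl := (colT.getD r []).getD k []

/-- The checks for one column. -/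
def chk (r k : ℕ) : Bool :=
  (cl r k).all (fun e => decide (e.deg = 1 ∨ e.deg = 2)) &&
  E8.L.all fun i => E8.L.all fun j =>
    decide (Lz (bl r) (Pz k) i j = Sz Pz 1 (cl r k) i j + Rz (bl r) (Pz k) i j) &&
    decide (Sz Pz 2 (cl r k) i j + Rz (bl r) (Sz Pz 1 (cl r k)) i j = 0) &&
    decide (Rz (bl r) (Sz Pz 2 (cl r k)) i j = 0)

/-- Basis vectors as brackets: `e_k = ε [e_i, e_j]`. -/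
def perf : List (ℕ × ℕ × ℤ) := [(22, 9, 1), (18, 13, 1), (17, 14, 1), (16, 15, 1), (5, 13, 1), (4, 18, 1), (4, 19, -1), (4, 20, -1), (4, 21, 1), (5, 21, 1), (4, 23, -1), (4, 24, 1), (4, 25, 1), (4, 26, -1), (5, 24, -1), (5, 25, -1), (6, 26, -1), (7, 26, -1), (5, 27, -1), (6, 27, 1), (7, 27, 1), (8, 27, -1), (10, 26, 1), (10, 27, 1), (11, 27, -1), (12, 27, -1), (13, 27, 1), (18, 26, 1)]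

/-- The Cartan integers read off the columns. -/
def ca (i s : ℕ) : ℤ := -((cl s i).headD ⟨0, 0, 0⟩).m

/-- The first coordinate of the root matrix. -/
def ru (s : ℕ) : ℕ := (rootPair.getD s (0, 0)).1

/-- The second coordinate of the root matrix. -/
def rv (s : ℕ) : ℕ := (rootPair.getD s (0, 0)).2

end Cfsg.Agent.Lib.ChevIso.D4Tbl
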